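import Cfsg.Agent.H83.SectionSum
import Cfsg.Agent.CharBasic.Virtual
import Cfsg.Agent.CharBasic.Integral

/-!
# Functions vanishing at singular elements are divisible by centralizer orders
-/

set_option linter.unusedSectionVars false

open scoped ComplexConjugate

namespace Cfsg.Agent.H25.KleinIsometry

open BlockBasic CharBasic

universe u

variable {G : Type u} [Group G] [Fintype G] {p : ℕ} [Fact p.Prime] {M : Ideal AlgInt}

/-- An integral combination of irreducible characters vanishing at the singular elements has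
values divisible, locally, by the centralizer orders. -/
theorem memLocalRing_div_centralizer (hM : IsPModular p M) (a : IrrCharacter G → ℂ)
    (ha : ∀ χ, IsIntegral ℤ (a χ))
    (hvan : ∀ x : G, p ∣ orderOf x → ∑ χ, a χ * (χ : G → ℂ) x = 0) (x : G) :
    MemLocalRing M ((∑ χ, a χ * (χ : G → ℂ) x) /
      (Nat.card (Subgroup.centralizer ({x} : Set G)) : ℂ)) := by
  classical
  by_cases hx : p ∣ orderOf x
  · rw [hvan x hx, zero_div]
    exact (locRing hM).zero_mem
  let _ : Fintype (Subgroup.centralizer ({x} : Set G)) := Fintype.ofFinite _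
  set C := Subgroup.centralizer ({x} : Set G)
  set z : C := ⟨x, Subgroup.mem_centralizer_singleton_iff.2 rfl⟩
  have hz : z ∈ Subgroup.center C := Subgroup.mem_center_iff.2 fun c =>
    Subtype.ext (H83.mem_centralizer_comm c).symm
  have hmult : ∀ χ : IrrCharacter G, ∃ m : IrrCharacter C → ℕ,
      ∀ c : C, (χ : G → ℂ) (c : G) = ∑ θ, (m θ : ℂ) * (θ : C → ℂ) c := by
    intro χ
    obtain ⟨n, ρ, hρ⟩ := IsIrr.isCharacter χ.2
    obtain ⟨m, -, hm⟩ := IsChar.exists_nat_mult
      (isCharacter_character (ρ.comp C.subtype : Representation ℂ C (Fin n → ℂ)))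
    refine ⟨m, fun c => ?_⟩
    have h := congrFun hm c
    simp only [Finset.sum_apply, Pi.smul_apply, smul_eq_mul] at h
    rw [← h, ← hρ]
    rfl
  choose m hm using hmult
  have hscal : ∀ θ : IrrCharacter C, ∃ ω : ℂ, IsIntegral ℤ ω ∧
      ∀ c : C, (θ : C → ℂ) (c * z) = ω * (θ : C → ℂ) c := by
    intro θ
    obtain ⟨n, ρ, hρ, he⟩ := θ.2
    haveI := hρ
    obtain ⟨ω, -, -, hω⟩ := exists_central_scalar ρ hz
    refine ⟨ω, ?_, fun c => by rw [← he]; exact hω c⟩
    have h := isIntegral_centralChar ρ z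
    have htop : Subgroup.centralizer ({z} : Set C) = ⊤ := by
      ext c
      simp only [Subgroup.mem_centralizer_singleton_iff, Subgroup.mem_top, iff_true]
      exact Subgroup.mem_center_iff.1 hz c
    rw [htop, Subgroup.index_top, Nat.cast_one, one_mul] at h
    have h1 := hω 1
    rw [one_mul, Representation.char_one] at h1
    rwa [h1, mul_div_cancel_right₀ _ (Nat.cast_ne_zero.2 (finrank_pos_of_isIrreducible ρ).ne')] at h
  choose ω hωi hω using hscal
  set b : IrrCharacter C → ℂ := fun θ => ∑ χ, a χ * m χ θ * ω θ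
  have hb : ∀ c : C, ∑ θ, b θ * (θ : C → ℂ) c = ∑ χ, a χ * (χ : G → ℂ) ((c * z : C) : G) := by
    intro c
    simp only [hm, hω, b, Finset.mul_sum, Finset.sum_mul]
    rw [Finset.sum_comm]
    exact Finset.sum_congr rfl fun χ _ => Finset.sum_congr rfl fun θ _ => by ring
  have hvb : ∀ v : C, v ≠ 1 → (∃ k, orderOf v = p ^ k) → ∑ θ, b θ * (θ : C → ℂ) v = 0 := by
    intro v hv ⟨k, hk⟩
    rw [hb]
    refine hvan _ ?_
    by_contra hns
    have hp := pPart_mul_of (p := p) (x := (v : G)) (y := x) (H83.mem_centralizer_comm v).symm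
      ⟨k, by rw [Subgroup.orderOf_coe, hk]⟩ hx
    rw [show ((v * z : C) : G) = (v : G) * x from rfl] at hns
    rw [(pPart_eq_one_iff _).2 hns] at hp
    exact hv (Subtype.ext hp.symm)
  obtain ⟨r, hr, hval⟩ := exists_mul_of_vanish (p := p) b {w | IsIntegral ℤ w} isIntegral_zero
    (fun u hu v hv => hu.add hv) (fun n u hu => hu.mul (isIntegral_natCast n))
    (fun θ => IsIntegral.sum _ fun χ _ => ((ha χ).mul (isIntegral_natCast _)).mul (hωi θ)) hvb
  rw [hb, one_mul] at hval
  rw [show ((z : C) : G) = x from rfl] at hval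
  rw [hval]
  set a' := (Nat.card C).factorization p
  have hU : ¬ p ∣ Nat.card C / p ^ a' := Nat.not_dvd_ordCompl Fact.out Nat.card_pos.ne'
  have hC : (Nat.card C : ℂ) = ((p ^ a' : ℕ) : ℂ) * ((Nat.card C / p ^ a' : ℕ) : ℂ) := by
    rw [← Nat.cast_mul, Nat.ordProj_mul_ordCompl_eq_self]
  rw [hC, mul_div_mul_left _ _ (Nat.cast_ne_zero.2 (pow_ne_zero _ (Fact.out : p.Prime).ne_zero)),
    div_eq_mul_inv]
  exact memLocalRing_mul hM (memLocalRing_of_isIntegral hM hr) (memLocalRing_natCast_inv hM hU)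

end Cfsg.Agent.H25.KleinIsometry
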