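import Cfsg.Agent.H25.KleinIsometry.Shape
import Cfsg.Agent.H25.KleinIsometry.Vanish
import Cfsg.Agent.H24.BlockRankOne
import Cfsg.Agent.S4642
import Cfsg.Agent.S4677

/-!
# The subsections of a two-block with Klein four defect group
-/

set_option linter.unusedSectionVars false

open scoped ComplexConjugate

namespace Cfsg.Agent.H25.KleinIsometry

open BlockBasic CharBasic

universe u

variable {G : Type u} [Group G] [Fintype G] [Fact (Nat.Prime 2)] {M : Ideal AlgInt}
  {B : Set (IrrCharacter G)} {P : Subgroup G}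
  {e : Set (IrrCharacter (Subgroup.centralizer (P : Set G)))}

/-- The blocks of the centralizer of a nontrivial two-element that induce `B`. -/
theorem local_data (hM : IsPModular 2 M) (hB : IsPBlock M B) (hd : blockDefect 2 B = 2)
    (hmax : IsMaximalBrauerPair 2 M B P e) (hsq : ∀ u ∈ P, u * u = 1) {x : G} (hx1 : x ≠ 1)
    (hxp : ∃ k : ℕ, orderOf x = 2 ^ k) {D : Subgroup G}
    (hD : D = Subgroup.centralizer (Subgroup.zpowers x : Set G))
    {f : Set (IrrCharacter D)} (hf : IsInducedBlock M D f B) :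
    x * x = 1 ∧ blockDefect 2 f = 2 ∧ blockRank 2 f = 1 := by
  classical
  subst hD
  obtain ⟨χ₀, hχ₀⟩ := isPBlock_nonempty hM hB
  have hxP : IsPGroup 2 (Subgroup.zpowers x) := by
    obtain ⟨k, hk⟩ := hxp
    exact IsPGroup.of_card (n := k) (by rw [Nat.card_zpowers, hk])
  obtain ⟨hfb, hf1⟩ := (S4642.isInducedBlock_centralizer_iff hM hxP hB hχ₀).1 hf
  obtain ⟨ξ, hξ⟩ := isPBlock_nonempty hM hfb
  have hf' : IsBrauerPairOf 2 M B (Subgroup.zpowers x) f :=
    H82.isBrauerPairOf_of_mem hM hB ⟨hxP, hfb⟩ hξ (hf1 ξ hξ)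
  have hP4 : Nat.card P = 4 := by rw [H82.card_of_maximal hM hmax, hd]; norm_num
  have hxx : x * x = 1 := by
    obtain ⟨g, hg⟩ := H82.exists_conj_le hM hmax hf'
    have h := hsq _ (H82.le_of_subpairLE hg
      (Subgroup.mem_map_of_mem _ (Subgroup.mem_zpowers x)))
    exact (MulAut.conj g).injective (by simpa only [map_mul, map_one, MulEquiv.coe_toMonoidHom] using h)
  refine ⟨hxx, ?_⟩
  have hloc := H82.isLocalBlock_centralizer hM hf'.1
  have hle : blockDefect 2 f ≤ 2 := by
    obtain ⟨y, -, hy⟩ := hloc.exists_conj_card hM hmax hf'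
    have h4 := hy.trans ((Subgroup.card_le_of_le inf_le_left).trans hP4.le)
    exact (Nat.pow_le_pow_iff_right one_lt_two).1 (h4.trans_eq (by norm_num : (4 : ℕ) = 2 ^ 2))
  have hge : 2 ≤ blockDefect 2 f := by
    obtain ⟨P', e', hmax', hle'⟩ := H82.exists_maximal_above hM hf'
    have hxP' : x ∈ P' := H82.le_of_subpairLE hle' (Subgroup.mem_zpowers x)
    have hP'4 : Nat.card P' = 2 ^ 2 := by rw [H82.card_of_maximal hM hmax', hd]
    have hab := IsPGroup.commutative_of_card_eq_prime_sq hP'4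
    have hP'C : P' ≤ Subgroup.centralizer (Subgroup.zpowers x : Set G) := fun y hy => by
      rw [Subgroup.zpowers_eq_closure, Subgroup.centralizer_closure]
      exact Subgroup.mem_centralizer_singleton_iff.2
        (congrArg Subtype.val (hab (⟨y, hy⟩ : P') ⟨x, hxP'⟩))
    have h := hloc.card_inf_le hM hmax'.1.1 hle'
    rw [inf_eq_left.2 hP'C, hP'4] at h
    exact (Nat.pow_le_pow_iff_right one_lt_two).1 h
  refine ⟨le_antisymm hle hge, ?_⟩
  cases nonempty_fintype ↥(Subgroup.centralizer (Subgroup.zpowers x : Set G))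
  have hxC : x ∈ Subgroup.centralizer (Subgroup.zpowers x : Set G) :=
    Subgroup.mem_centralizer_iff.2 fun q hq => by
      obtain ⟨i, rfl⟩ := Subgroup.mem_zpowers_iff.1 hq
      exact (Commute.refl x).zpow_left i
  refine KleinDefect.blockRank_eq_one hM (z := ⟨x, hxC⟩) (Subgroup.mem_center_iff.2 fun q =>
    Subtype.ext (Subgroup.mem_centralizer_iff.1 q.2 x (Subgroup.mem_zpowers x)).symm)
    ?_ hfb hle
  rw [Subgroup.orderOf_mk]
  exact orderOf_eq_prime (by rw [pow_two, hxx]) hx1

section Column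

variable {x : G} [Fintype ↥(Subgroup.centralizer ({x} : Set G))]

open scoped Classical in
/-- A value at the section of `x` is the sum over the blocks inducing `B`. -/
theorem apply_eq_sum_parts (hM : IsPModular 2 M) (hB : IsPBlock M B) {k : ℕ}
    (hx : orderOf x = 2 ^ k) {χ : IrrCharacter G} (hχ : χ ∈ B)
    {s : ↥(Subgroup.centralizer ({x} : Set G))} (hs : ¬ 2 ∣ orderOf s) :
    (χ : G → ℂ) (x * (s : G)) =
      ∑ b ∈ Finset.univ.filter (fun b : Set (IrrCharacter ↥(Subgroup.centralizer ({x} : Set G))) =>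
          IsInducedBlock M (Subgroup.centralizer ({x} : Set G)) b B),
        blockPart b (fun c : ↥(Subgroup.centralizer ({x} : Set G)) => (χ : G → ℂ) (x * (c : G))) s := by
  set θ := fun c : ↥(Subgroup.centralizer ({x} : Set G)) => (χ : G → ℂ) (x * (c : G))
  have hexp := congrFun (classFunction_expansion (H83.isClassFunction_shift (x := x) χ)) s
  simp only [Finset.sum_apply, Pi.smul_apply, smul_eq_mul] at hexp
  have hfull : θ s = ∑ b ∈ Finset.univ.filter
      (fun b : Set (IrrCharacter ↥(Subgroup.centralizer ({x} : Set G))) => IsPBlock M b),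
        blockPart b θ s := by
    rw [show θ s = _ from hexp]
    simp only [blockPart, Subsingleton.elim (Fintype.ofFinite _)
      ‹Fintype ↥(Subgroup.centralizer ({x} : Set G))›, finsum_mem_eq_sum_ite]
    rw [Finset.sum_comm]
    refine Finset.sum_congr rfl fun ψ _ => ?_
    rw [Finset.sum_eq_single (blockOf M (ψ : _ → ℂ))]
    · rw [if_pos (self_mem_blockOf hM ψ), Subsingleton.elim (Fintype.ofFinite _)
        ‹Fintype ↥(Subgroup.centralizer ({x} : Set G))›]
    · exact fun b hb hne => if_neg fun h =>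
        hne (isPBlock_eq_blockOf hM (Finset.mem_filter.1 hb).2 h)
    · exact fun h => absurd (Finset.mem_filter.2 ⟨Finset.mem_univ _, isPBlock_blockOf M ψ⟩) h
  show θ s = _
  rw [hfull]
  refine (Finset.sum_subset (fun b hb => Finset.mem_filter.2
    ⟨Finset.mem_univ _, (Finset.mem_filter.1 hb).2.1⟩) fun b hb hnb => ?_).symm
  exact Cores.second_main hM hx hB hχ (Finset.mem_filter.1 hb).2
    (fun h => hnb (Finset.mem_filter.2 ⟨Finset.mem_univ _, h⟩)) s hs

open scoped Classical in
/-- The generalised decomposition column of a subsection. -/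
theorem exists_column (hM : IsPModular 2 M) (hx1 : x ≠ 1) (hxx : x * x = 1)
    {f : Set (IrrCharacter ↥(Subgroup.centralizer ({x} : Set G)))}
    (hind : IsInducedBlock M (Subgroup.centralizer ({x} : Set G)) f B)
    (hfd : blockDefect 2 f = 2) (hfl : blockRank 2 f = 1) :
    ∃ D : IrrCharacter G → ℤ, ∃ φ : ↥(Subgroup.centralizer ({x} : Set G)) → ℂ,
      (∀ χ ∈ B, ∀ s, ¬ 2 ∣ orderOf s →
        blockPart f (fun c : ↥(Subgroup.centralizer ({x} : Set G)) => (χ : G → ℂ) (x * (c : G))) s =
          (D χ : ℂ) * φ s) ∧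
      (∀ s, ¬ 2 ∣ orderOf s → MemLocalRing M (φ s) ∧ MemLocalRing M (4 * φ s /
        (Nat.card (Subgroup.centralizer ({x * (s : G)} : Set G)) : ℂ))) ∧
      (∑ χ ∈ blockFinset B, D χ ^ 2 = 4) ∧
      ∀ a : IrrCharacter G → ℂ,
        (∀ y : G, 2 ∣ orderOf y → ∑ χ ∈ blockFinset B, a χ * (χ : G → ℂ) y = 0) →
        ∑ χ ∈ blockFinset B, a χ * (D χ : ℂ) = 0 := by
  have hfb := hind.1
  have hxo : orderOf x = 2 ^ 1 := (orderOf_eq_prime (by rw [pow_two, hxx]) hx1).trans (pow_one 2).symm
  obtain ⟨a, d, hdec, hdsq⟩ := H24.BlockRankOne.exists_decomp hM hfb hfl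
  rw [hfd] at hdsq
  set φ : ↥(Subgroup.centralizer ({x} : Set G)) → ℂ := fun s => ∑ ψ, if ψ ∈ f then (a ψ : ℂ) * (ψ : ↥(Subgroup.centralizer ({x} : Set G)) → ℂ) s else 0 with hφ
  have hψ : ∀ ψ ∈ f, ∀ s : ↥(Subgroup.centralizer ({x} : Set G)), ¬ 2 ∣ orderOf s → (ψ : ↥(Subgroup.centralizer ({x} : Set G)) → ℂ) s = (d ψ : ℂ) * φ s := fun ψ hψ s hs => by
    rw [hdec ψ hψ s hs, finsum_mem_eq_sum_ite]
  have hone : ¬ 2 ∣ orderOf (1 : ↥(Subgroup.centralizer ({x} : Set G))) := by simp
  have hφ1 : φ 1 ≠ 0 := fun h => by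
    obtain ⟨ψ, hψf⟩ := isPBlock_nonempty hM hfb
    exact IsIrr.one_ne_zero ψ.2 (by rw [hψ ψ hψf 1 hone, h, mul_zero])
  have hd2 : ∑ ψ, (if ψ ∈ f then (d ψ : ℂ) * (d ψ : ℂ) else 0) = 4 := by
    rw [finsum_mem_eq_sum_of_inter_support_eq (t := Finset.univ.filter (· ∈ f)) (s := f)
      (f := fun χ => d χ ^ 2) (by simp), Finset.sum_filter] at hdsq
    have h := congrArg (fun n : ℕ => (n : ℂ)) hdsq
    push_cast at h
    rw [← h]
    exact Finset.sum_congr rfl fun ψ _ => by split_ifs <;> ring
  -- the central involution acts by a sign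
  set z : ↥(Subgroup.centralizer ({x} : Set G)) := ⟨x, Subgroup.mem_centralizer_singleton_iff.2 rfl⟩ with hz
  have hzc : z ∈ Subgroup.center ↥(Subgroup.centralizer ({x} : Set G)) := Subgroup.mem_center_iff.2 fun c =>
    Subtype.ext (H83.mem_centralizer_comm c).symm
  have hzz : z * z = 1 := Subtype.ext hxx
  have hsign : ∀ ψ : IrrCharacter ↥(Subgroup.centralizer ({x} : Set G)), ∃ ω : ℤ, ∀ c : ↥(Subgroup.centralizer ({x} : Set G)), (ψ : ↥(Subgroup.centralizer ({x} : Set G)) → ℂ) (z * c) = (ω : ℂ) * (ψ : ↥(Subgroup.centralizer ({x} : Set G)) → ℂ) c := by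
    intro ψ
    obtain ⟨n, ρ, hρ, he⟩ := ψ.2
    haveI := hρ
    obtain ⟨ω, -, -, hω⟩ := exists_central_scalar ρ hzc
    have h1 := hω z
    have h2 := hω 1
    rw [one_mul] at h2
    rw [hzz, h2, ← mul_assoc] at h1
    have h3 : ω * ω = 1 := by
      have hne : ρ.character 1 ≠ 0 := by rw [he]; exact IsIrr.one_ne_zero ψ.2
      exact mul_right_cancel₀ hne (by rw [one_mul]; exact h1.symm)
    obtain ⟨w, rfl⟩ : ∃ w : ℤ, ω = (w : ℂ) := by
      rcases mul_self_eq_one_iff.1 h3 with h | h
      · exact ⟨1, by rw [h]; simp⟩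
      · exact ⟨-1, by rw [h]; simp⟩
    exact ⟨w, fun c => by rw [← he, ← Subgroup.mem_center_iff.1 hzc c]; exact hω c⟩
  have hn : ∀ (χ : IrrCharacter G) (ψ : IrrCharacter ↥(Subgroup.centralizer ({x} : Set G))), ∃ n : ℤ,
      classInner (fun c : ↥(Subgroup.centralizer ({x} : Set G)) => (χ : G → ℂ) (x * (c : G))) (ψ : ↥(Subgroup.centralizer ({x} : Set G)) → ℂ) = n := by
    intro χ ψ
    obtain ⟨ω, hω⟩ := hsign ψ
    obtain ⟨n, ρ, hρ⟩ := IsIrr.isCharacter χ.2
    obtain ⟨m, hm⟩ := classInner_isChar_nat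
      (isCharacter_character (ρ.comp (Subgroup.centralizer ({x} : Set G)).subtype :
        Representation ℂ ↥(Subgroup.centralizer ({x} : Set G)) (Fin n → ℂ))) (IsIrr.isCharacter ψ.2)
    have hres : ∀ c : ↥(Subgroup.centralizer ({x} : Set G)), Representation.character (ρ.comp (Subgroup.centralizer ({x} : Set G)).subtype :
        Representation ℂ ↥(Subgroup.centralizer ({x} : Set G)) (Fin n → ℂ)) c =
        (χ : G → ℂ) (c : G) := fun c => by rw [← hρ]; rfl
    refine ⟨ω * m, ?_⟩
    rw [Int.cast_mul, Int.cast_natCast, ← hm, classInner_def, classInner_def, mul_left_comm,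
      Finset.mul_sum (a := (ω : ℂ))]
    congr 1
    refine (Fintype.sum_equiv (Equiv.mulLeft z) _ _ fun c => ?_)
    rw [hres, Equiv.coe_mulLeft, hω, map_mul, map_intCast]
    have : (ω : ℂ) * (ω : ℂ) * (ψ : ↥(Subgroup.centralizer ({x} : Set G)) → ℂ) 1 = (ψ : ↥(Subgroup.centralizer ({x} : Set G)) → ℂ) 1 := by
      rw [mul_assoc, ← hω, mul_one, ← hω, hzz]
    have hω2 : (ω : ℂ) * (ω : ℂ) = 1 :=
      mul_right_cancel₀ (IsIrr.one_ne_zero ψ.2) (by rw [one_mul]; exact this)
    rw [show ((z * c : ↥(Subgroup.centralizer ({x} : Set G))) : G) = x * (c : G) from rfl]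
    linear_combination (-(χ : G → ℂ) (x * (c : G)) * conj ((ψ : ↥(Subgroup.centralizer ({x} : Set G)) → ℂ) c)) * hω2
  choose n hn using hn
  refine ⟨fun χ => ∑ ψ, if ψ ∈ f then n χ ψ * d ψ else 0, φ, ?_⟩
  set D : IrrCharacter G → ℤ := fun χ => ∑ ψ, if ψ ∈ f then n χ ψ * d ψ else 0 with hD
  have hpart : ∀ (χ : IrrCharacter G) (s : ↥(Subgroup.centralizer ({x} : Set G))), ¬ 2 ∣ orderOf s →
      blockPart f (fun c : ↥(Subgroup.centralizer ({x} : Set G)) => (χ : G → ℂ) (x * (c : G))) s = (D χ : ℂ) * φ s := by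
    intro χ s hs
    rw [blockPart, Subsingleton.elim (Fintype.ofFinite ↥(Subgroup.centralizer ({x} : Set G)))
      ‹Fintype ↥(Subgroup.centralizer ({x} : Set G))›, finsum_mem_eq_sum_ite]
    rw [hD, Int.cast_sum, Finset.sum_mul]
    refine Finset.sum_congr rfl fun ψ _ => ?_
    split_ifs with h
    · rw [hn, hψ ψ h s hs]; push_cast; ring
    · simp
  refine ⟨fun χ _ => hpart χ, fun s hs => ⟨?_, ?_⟩, ?_, fun b hb => ?_⟩
  · rw [hφ]
    exact (locRing hM).sum_mem fun ψ _ => by
      split_ifs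
      · exact memLocalRing_of_isIntegral hM (isIntegral_intCast _ |>.mul (isIntegral_apply ψ s))
      · exact (locRing hM).zero_mem
  · have hcard : Nat.card (Subgroup.centralizer ({x * (s : G)} : Set G)) =
        Nat.card (Subgroup.centralizer ({s} : Set ↥(Subgroup.centralizer ({x} : Set G)))) := by
      have hpp : pPart (p := 2) (x * (s : G)) = x :=
        pPart_mul_of (H83.mem_centralizer_comm s) ⟨1, hxo⟩ (by rwa [Subgroup.orderOf_coe])
      refine Nat.card_congr
        { toFun := fun y => ⟨⟨y.1, ?_⟩, ?_⟩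
          invFun := fun y => ⟨(y.1 : G), ?_⟩
          left_inv := fun y => rfl
          right_inv := fun y => rfl }
      · have h := pPart_conj (p := 2) (x * (s : G)) y.1
        rw [mul_inv_eq_iff_eq_mul.2 (Subgroup.mem_centralizer_singleton_iff.1 y.2), hpp] at h
        exact Subgroup.mem_centralizer_singleton_iff.2 (mul_inv_eq_iff_eq_mul.1 h.symm)
      · refine Subgroup.mem_centralizer_singleton_iff.2 (Subtype.ext ?_)
        have hy : y.1 * x = x * y.1 := by
          have h := pPart_conj (p := 2) (x * (s : G)) y.1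
          rw [mul_inv_eq_iff_eq_mul.2 (Subgroup.mem_centralizer_singleton_iff.1 y.2), hpp] at h
          exact mul_inv_eq_iff_eq_mul.1 h.symm
        have h2 := Subgroup.mem_centralizer_singleton_iff.1 y.2
        rw [← mul_assoc, hy, mul_assoc, mul_assoc] at h2
        exact mul_left_cancel h2
      · have h1 : (y.1 : G) * (s : G) = (s : G) * (y.1 : G) :=
          congrArg Subtype.val (Subgroup.mem_centralizer_singleton_iff.1 y.2)
        refine Subgroup.mem_centralizer_singleton_iff.2 ?_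
        rw [← mul_assoc, ← H83.mem_centralizer_comm y.1, mul_assoc, h1, mul_assoc]
    rw [hcard]
    have h := memLocalRing_div_centralizer (G := ↥(Subgroup.centralizer ({x} : Set G))) hM
      (fun ψ => if ψ ∈ f then (d ψ : ℂ) else 0)
      (fun ψ => by split_ifs; exacts [isIntegral_natCast _, isIntegral_zero]) (fun c hc => ?_) s
    · convert h using 2
      rw [← hd2, Finset.sum_mul]
      exact Finset.sum_congr rfl fun ψ _ => by
        split_ifs with h'
        · rw [hψ ψ h' s hs]; ring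
        · simp
    · have h0 := blockKernel_eq_zero_of_regular_of_singular hM hfb hone hc
      have h1 := congrArg conj h0
      rw [conj_blockKernel, map_zero, blockKernel, finsum_mem_eq_sum_ite] at h1
      refine mul_left_cancel₀ (show conj (φ 1) ≠ 0 from fun h =>
        hφ1 (by simpa using congrArg conj h)) ?_
      rw [mul_zero]
      refine Eq.trans ?_ h1
      rw [Finset.mul_sum]
      exact Finset.sum_congr rfl fun ψ _ => by
        split_ifs with h'
        · rw [hψ ψ h' 1 hone, map_mul, map_natCast]; ring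
        · simp
  · have h := H83.sum_shift_parts hM hxo hind hfb hone hone
    have hlhs : (∑ χ : IrrCharacter G, if χ ∈ B then
        conj (blockPart f (fun c : ↥(Subgroup.centralizer ({x} : Set G)) => (χ : G → ℂ) (x * (c : G))) 1) *
          blockPart f (fun c : ↥(Subgroup.centralizer ({x} : Set G)) => (χ : G → ℂ) (x * (c : G))) 1 else 0) =
        ((∑ χ ∈ blockFinset B, D χ ^ 2 : ℤ) : ℂ) * (conj (φ 1) * φ 1) := by
      rw [blockFinset, Finset.sum_filter, Int.cast_sum, Finset.sum_mul]
      refine Finset.sum_congr rfl fun χ _ => ?_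
      split_ifs with hχ
      · rw [hpart χ 1 hone, map_mul, map_intCast]; push_cast; ring
      · simp
    have hrhs : (∑ ψ : IrrCharacter ↥(Subgroup.centralizer ({x} : Set G)), if ψ ∈ f ∧ ψ ∈ f then
        conj ((ψ : ↥(Subgroup.centralizer ({x} : Set G)) → ℂ) 1) * (ψ : ↥(Subgroup.centralizer ({x} : Set G)) → ℂ) 1 else 0) = 4 * (conj (φ 1) * φ 1) := by
      rw [← hd2, Finset.sum_mul]
      refine Finset.sum_congr rfl fun ψ _ => ?_
      simp only [and_self]
      split_ifs with hψf
      · rw [hψ ψ hψf 1 hone, map_mul, map_natCast]; ring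
      · simp
    have h2 := mul_right_cancel₀ (mul_ne_zero (fun h => hφ1 (by simpa using congrArg conj h)) hφ1)
      (hlhs.symm.trans (h.trans hrhs))
    exact_mod_cast h2
  · refine mul_right_cancel₀ hφ1 ?_
    rw [zero_mul, Finset.sum_mul]
    calc ∑ χ ∈ blockFinset B, b χ * (D χ : ℂ) * φ 1
        = ∑ χ ∈ blockFinset B, b χ *
            blockPart f (fun c : ↥(Subgroup.centralizer ({x} : Set G)) => (χ : G → ℂ) (x * (c : G))) 1 :=
          Finset.sum_congr rfl fun χ _ => by rw [hpart χ 1 hone, mul_assoc]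
      _ = 0 := by
        simp only [S4683.blockPart_regular hM hfb _ hone, Finset.mul_sum]
        rw [Finset.sum_comm]
        refine Finset.sum_eq_zero fun c _ => ?_
        by_cases hc : 2 ∣ orderOf c
        · exact Finset.sum_eq_zero fun χ _ => by simp [hc]
        · rw [if_neg hc]
          calc ∑ χ ∈ blockFinset B, b χ *
                ((Nat.card ↥(Subgroup.centralizer ({x} : Set G)) : ℂ)⁻¹ * (blockKernel f 1 c * (χ : G → ℂ) (x * (c : G))))
              = ((Nat.card ↥(Subgroup.centralizer ({x} : Set G)) : ℂ)⁻¹ * blockKernel f 1 c) *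
                  ∑ χ ∈ blockFinset B, b χ * (χ : G → ℂ) (x * (c : G)) := by
                rw [Finset.mul_sum]
                exact Finset.sum_congr rfl fun χ _ => by ring
            _ = 0 := by
                rw [hb, mul_zero]
                by_contra hns
                have hp := pPart_mul_of (p := 2) (x := x) (y := (c : G))
                  (H83.mem_centralizer_comm c) ⟨1, hxo⟩ (by rwa [Subgroup.orderOf_coe])
                rw [(pPart_eq_one_iff _).2 hns] at hp
                exact hx1 hp.symm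

end Column

end Cfsg.Agent.H25.KleinIsometry
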