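import Cfsg.Agent.S4637
import Cfsg.Agent.H83.HeightPairs
import Cfsg.Agent.H82.PairSaturated

/-!
# Equal ranks of a two-block with Klein four defect group and its correspondent
-/

set_option linter.unusedSectionVars false

namespace Cfsg.Agent.H25.KleinIsometry

open BlockBasic CharBasic

universe u

variable {G : Type u} [Group G] [Fintype G] [Fact (Nat.Prime 2)] {M : Ideal AlgInt}

theorem isKleinFour_subgroupOf {P H : Subgroup G} (hPH : P ≤ H) (hV : IsKleinFour P) :
    IsKleinFour (P.subgroupOf H) where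
  card_four := (Nat.card_congr (Subgroup.subgroupOfEquivOfLe hPH).toEquiv).trans hV.card_four
  exponent_two :=
    (Monoid.exponent_eq_of_mulEquiv (Subgroup.subgroupOfEquivOfLe hPH)).trans hV.exponent_two

theorem mul_self_of_klein {P : Subgroup G} (hV : IsKleinFour P) {u : G} (hu : u ∈ P) :
    u * u = 1 := by
  have h1 : (⟨u, hu⟩ : P) ^ 2 = 1 := by
    rw [← hV.exponent_two]; exact Monoid.pow_exponent_eq_one _
  rw [← pow_two]; exact congrArg Subtype.val h1

theorem blockDefect_of_klein (hM : IsPModular 2 M) {B : Set (IrrCharacter G)} (hB : IsPBlock M B)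
    {P : Subgroup G} (hPD : IsDefectGroup 2 M B P) (hV : IsKleinFour P) : blockDefect 2 B = 2 := by
  have h1 := H35.card_defectGroup hM hB hPD
  rw [hV.card_four, show (4 : ℕ) = 2 ^ 2 from rfl] at h1
  exact (Nat.pow_right_injective le_rfl h1).symm

/-- Corresponding maximal pairs, and the equality of the ranks. -/
theorem exists_pairs (hM : IsPModular 2 M) {B : Set (IrrCharacter G)} (hB : IsPBlock M B)
    {P : Subgroup G} (hPD : IsDefectGroup 2 M B P) (hV : IsKleinFour P) {N : Subgroup G} [Fintype N]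
    (hN : N = Subgroup.normalizer (P : Set G)) {c : Set (IrrCharacter N)}
    (hcD : IsDefectGroup 2 M c (P.subgroupOf N)) (hc : IsInducedBlock M N c B) :
    ∃ e k, IsMaximalBrauerPair 2 M B P e ∧ IsMaximalBrauerPair 2 M c (P.subgroupOf N) k ∧
      (blockRank 2 B = 1 ∨ blockRank 2 B = 3) ∧ blockRank 2 c = blockRank 2 B := by
  classical
  have hPN : P ≤ N := hN ▸ Subgroup.le_normalizer
  have hCN : Subgroup.centralizer (P : Set G) ≤ N := hN ▸ Subgroup.centralizer_le_normalizer _
  have hNN : N ≤ Subgroup.normalizer (P : Set G) := hN.le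
  haveI : (P.subgroupOf N).Normal :=
    (Subgroup.normal_subgroupOf_iff_le_normalizer hPN).mpr hNN
  have hV' := isKleinFour_subgroupOf hPN hV
  have hPp : IsPGroup 2 P := IsPGroup.of_card (n := 2) (by rw [hV.card_four]; norm_num)
  have hP'p : IsPGroup 2 (P.subgroupOf N) :=
    hPp.of_equiv (Subgroup.subgroupOfEquivOfLe hPN).symm
  -- a pair of the correspondent
  obtain ⟨k, hk⟩ : ∃ k, IsBrauerPairOf 2 M c (P.subgroupOf N) k := by
    cases nonempty_fintype {k : Set (IrrCharacter (Subgroup.centralizer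
      ((P.subgroupOf N : Subgroup N) : Set N))) // IsPBlock M k}
    by_contra hne
    push Not at hne
    obtain ⟨χ, hχ⟩ := isPBlock_nonempty hM hc.1
    have h0 : blockElem c = 0 := by
      rw [H82.blockElem_eq_sum_blockUp hM (P.subgroupOf N) hP'p hc.1]
      exact Finset.sum_eq_zero fun k hk => absurd (Finset.mem_filter.1 hk).2 (hne k)
    have h1 := omega_blockElem c χ
    rw [if_pos hχ, h0] at h1
    simp [omega, chiLin] at h1
  have hC : Subgroup.centralizer (P : Set G) =
      (Subgroup.centralizer ((P.subgroupOf N : Subgroup N) : Set N)).map N.subtype := by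
    have h := H82.centralizer_sup_eq_map (Q := P) hCN hPN (Or.inr le_rfl)
    rwa [sup_idem] at h
  set e : Set (IrrCharacter (Subgroup.centralizer (P : Set G))) :=
    H83.irrComp (H82.localCent hC).symm '' k with he
  have hpair : IsBrauerPair 2 M P e := ⟨hPp, H82.isPBlock_image_irrComp _ hk.1.2⟩
  obtain ⟨η, hη⟩ := isPBlock_nonempty hM hk.1.2
  obtain ⟨θ₀, hθ₀⟩ := isPBlock_nonempty hM hc.1
  obtain ⟨χ₀, hχ₀⟩ := isPBlock_nonempty hM hB
  set ξ := H83.irrComp (H82.localCent hC).symm η
  have hξη : H83.irrComp (H82.localCent hC) ξ = η := H83.irrComp_symm' _ η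
  -- it is a pair of `B`
  have hPe : IsBrauerPairOf 2 M B P e := by
    refine H82.isBrauerPairOf_of_mem hM hB hpair (Set.mem_image_of_mem _ hη) ?_
    have hz : IsCentralElt (brauerMap P N (blockElem B)) :=
      isCentralElt_brauerMap hNN (isCentralElt_blockElem B)
    have h1 := H82.brOmega_congr_centralChar hM hk hη hθ₀ hz
      (isIntElt_brauerMap hM (isIntElt_blockElem hM hB))
    have h2 := omega_brauerMap_of_induced hM hPp hPN hCN hNN hc hθ₀ hχ₀
      (isCentralElt_blockElem B) (isIntElt_blockElem hM hB)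
    rw [omega_blockElem, if_pos hχ₀] at h2
    have h3 := memLocalIdeal_add hM h1 h2
    rw [sub_add_sub_cancel] at h3
    convert h3 using 2
    conv_rhs => rw [← hξη]
    rw [H82.brOmega_localCent hC ξ (z := brauerMap P N (blockElem B))
      (w := ofFun fun g => if g ∈ Subgroup.centralizer (P : Set G) then (blockElem B).coeff g else 0)
      (fun h => by rw [coeff_brauerMap, coeff_ofFun])]
    simp only [H82.brOmega, Cfsg.brauerOmega, coeff_ofFun]
    exact finsum_congr fun c => by rw [if_pos c.2]
  have hmax := H82.isMaximal_of_card hM hPe (H35.card_defectGroup hM hB hPD).ge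
  have hmax' := H82.isMaximal_of_card hM hk (H35.card_defectGroup hM hc.1 hcD).ge
  have hind : IsInducedBlock M (Subgroup.centralizer (P : Set G)) e B :=
    (S4642.isInducedBlock_centralizer_iff hM hPp hB hχ₀).2
      ⟨hpair.2, fun ξ hξ => H82.brOmega_blockElem_of_isBrauerPairOf hPe hξ⟩
  have hind' : IsInducedBlock M (Subgroup.centralizer ((P.subgroupOf N : Subgroup N) : Set N)) k c :=
    (S4642.isInducedBlock_centralizer_iff hM hP'p hc.1 hθ₀).2
      ⟨hk.1.2, fun ξ hξ => H82.brOmega_blockElem_of_isBrauerPairOf hk hξ⟩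
  -- the two stabilizers
  have hrel : H82.PairRel N ⟨P.subgroupOf N, k⟩ ⟨P, e⟩ := by
    have h := H82.pairRel_localCent (Subgroup.map_subgroupOf_eq_of_le hPN).symm hC e
    rwa [he, Set.image_image, funext (H83.irrComp_symm' (H82.localCent hC)), Set.image_id'] at h
  set T := H82.pairStab (⟨P, e⟩ : BrauerPairIdx G)
  set T' := H82.pairStab (⟨P.subgroupOf N, k⟩ : BrauerPairIdx N)
  have hT' : T' = T.subgroupOf N := by
    ext y
    rw [Subgroup.mem_subgroupOf]
    exact H24.AbelianPair.conjPair_iff hrel y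
  have hTN : T ≤ N := fun y hy => hN ▸ ((H82.mem_pairStab hM hpair.2 y).1 hy).1
  obtain ⟨hl, -, hlB⟩ := S4637.result M hM B hB P hPD hV e hind T
    (fun y => H82.mem_pairStab hM hpair.2 y) _ rfl
  obtain ⟨-, -, hlc⟩ := S4637.result M hM c hc.1 (P.subgroupOf N) hcD hV' k hind' T'
    (fun y => H82.mem_pairStab hM hk.1.2 y) _ rfl
  have hCeq : Subgroup.centralizer ((P.subgroupOf N : Subgroup N) : Set N) =
      (Subgroup.centralizer (P : Set G)).subgroupOf N := by
    rw [hC]
    exact (Subgroup.comap_map_eq_self_of_injective N.subtype_injective _).symm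
  refine ⟨e, k, hmax, hmax', hlB ▸ hl, ?_⟩
  rw [hlB, hlc, hT', hCeq, Subgroup.relIndex_subgroupOf hTN]

end Cfsg.Agent.H25.KleinIsometry
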