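import Cfsg.Prelude.Def_BlockLocal
import Cfsg.Agent.H25.KleinIsometry.Columns
import Cfsg.Agent.H25.KleinIsometry.Rank

/-!
# The perfect isometry for a Klein four defect group
-/

set_option linter.unusedSectionVars false

open scoped ComplexConjugate

namespace Cfsg.Agent.H25.KleinIsometry

open BlockBasic CharBasic

universe u v

variable {G : Type u} [Group G] [Fintype G] [Fact (Nat.Prime 2)] {M : Ideal AlgInt}

/-- A column: squares add up to four, and it satisfies the relations of the values at singular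
elements. -/
def IsColumn (B : Set (IrrCharacter G)) (D : IrrCharacter G → ℤ) : Prop :=
  ∑ χ ∈ blockFinset B, D χ ^ 2 = 4 ∧
    ∀ a : IrrCharacter G → ℂ,
      (∀ y : G, 2 ∣ orderOf y → ∑ χ ∈ blockFinset B, a χ * (χ : G → ℂ) y = 0) →
      ∑ χ ∈ blockFinset B, a χ * (D χ : ℂ) = 0

/-- The values of the block at a singular element, in terms of columns. -/
theorem exists_expansion (hM : IsPModular 2 M) {B : Set (IrrCharacter G)} (hB : IsPBlock M B)
    (hd : blockDefect 2 B = 2) {P : Subgroup G}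
    {e : Set (IrrCharacter (Subgroup.centralizer (P : Set G)))}
    (hmax : IsMaximalBrauerPair 2 M B P e) (hsq : ∀ u ∈ P, u * u = 1) {x : G}
    (hx : 2 ∣ orderOf x) :
    ∃ (n : ℕ) (D : Fin n → IrrCharacter G → ℤ) (φ : Fin n → ℂ),
      (∀ χ ∈ B, (χ : G → ℂ) x = ∑ i, (D i χ : ℂ) * φ i) ∧
      ∀ i, IsColumn B (D i) ∧ MemLocalRing M (φ i) ∧
        MemLocalRing M (4 * φ i / (Nat.card (Subgroup.centralizer ({x} : Set G)) : ℂ)) := by
  classical
  set u := pPart (p := 2) x with hu
  set C := Subgroup.centralizer ({u} : Set G)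
  let _ : Fintype C := Fintype.ofFinite _
  have hu1 : u ≠ 1 := fun h => (pPart_eq_one_iff x).1 h hx
  obtain ⟨k, hk⟩ := exists_orderOf_pPart (p := 2) x
  let s : C := ⟨pReg (p := 2) x,
    Subgroup.mem_centralizer_singleton_iff.2 (commute_pPart_pReg (p := 2) x).eq.symm⟩
  have hs : ¬ 2 ∣ orderOf s := by
    rw [← Subgroup.orderOf_coe]; exact not_dvd_orderOf_pReg x
  have hxs : u * (s : G) = x := pPart_mul_pReg x
  set T := Finset.univ.filter (fun b : Set (IrrCharacter C) => IsInducedBlock M C b B)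
  have hdata : ∀ f : T, u * u = 1 ∧ blockDefect 2 f.1 = 2 ∧ blockRank 2 f.1 = 1 := fun f =>
    local_data hM hB hd hmax hsq hu1 ⟨k, hk⟩
      (by rw [Subgroup.zpowers_eq_closure, Subgroup.centralizer_closure]) (Finset.mem_filter.1 f.2).2
  choose D φ hpart hloc hsum hlin using fun f : T =>
    exists_column hM hu1 (hdata f).1 (Finset.mem_filter.1 f.2).2 (hdata f).2.1 (hdata f).2.2
  refine ⟨T.card, fun i => D (T.equivFin.symm i), fun i => φ (T.equivFin.symm i) s,
    fun χ hχ => ?_, fun i => ⟨⟨hsum _, hlin _⟩, (hloc _ s hs).1, ?_⟩⟩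
  · rw [Equiv.sum_comp T.equivFin.symm (fun f => (D f χ : ℂ) * φ f s), ← hxs,
      apply_eq_sum_parts hM hB hk hχ hs, ← Finset.sum_coe_sort T]
    exact Finset.sum_congr rfl fun f _ => hpart f χ hχ s hs
  · have h := (hloc (T.equivFin.symm i) s hs).2
    rwa [hxs] at h

/-- A column of a block of rank one consists of signs adding up to zero. -/
theorem column_one {b : Set (IrrCharacter G)} {D : IrrCharacter G → ℤ}
    (h4 : (blockFinset b).card = 4)
    (hsing : ∀ x : G, 2 ∣ orderOf x → ∑ φ ∈ blockFinset b, (φ : G → ℂ) x = 0)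
    (hD : IsColumn b D) :
    ∑ χ ∈ blockFinset b, D χ = 0 ∧ ∀ χ ∈ blockFinset b, D χ = 1 ∨ D χ = -1 := by
  classical
  obtain ⟨hsq, hlin⟩ := hD
  have h0 : ∑ χ ∈ blockFinset b, D χ = 0 := by
    have h := hlin (fun _ => 1) (fun y hy => by simpa using hsing y hy)
    simp only [one_mul] at h
    exact_mod_cast h
  have hle : ∀ χ ∈ blockFinset b, D χ ^ 2 ≤ 1 := by
    intro χ hχ
    by_contra hlt
    have hrest : ∑ ψ ∈ (blockFinset b).erase χ, D ψ ^ 2 = 4 - D χ ^ 2 := by
      rw [← hsq, ← Finset.add_sum_erase _ _ hχ]; ring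
    have h2 : 2 ≤ |D χ| := by
      by_contra h
      have : |D χ| ≤ 1 := by omega
      nlinarith [sq_abs (D χ), abs_nonneg (D χ)]
    have hz : ∀ ψ ∈ (blockFinset b).erase χ, D ψ = 0 := fun ψ hψ => by
      have h3 := (Finset.single_le_sum (f := fun ψ => D ψ ^ 2) (fun _ _ => sq_nonneg _) hψ)
      nlinarith [sq_abs (D χ)]
    rw [← Finset.add_sum_erase _ _ hχ, Finset.sum_eq_zero hz, add_zero] at h0
    rw [h0] at h2
    norm_num at h2
  refine ⟨h0, fun χ hχ => ?_⟩
  have h := (Finset.sum_eq_sum_iff_of_le hle).1 (by rw [hsq, Finset.sum_const, h4]; rfl) χ hχ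
  exact sq_eq_one_iff.1 h

/-- A column of a block of rank three is proportional to the signs. -/
theorem column_three {b : Set (IrrCharacter G)} {D : IrrCharacter G → ℤ}
    (w : IrrCharacter G → ℤ) (hne : b.Nonempty) (hw : ∀ χ ∈ b, w χ = 1 ∨ w χ = -1)
    (hsing : ∀ χ ∈ b, ∀ x : G, 2 ∣ orderOf x →
      4 * (χ : G → ℂ) x = (w χ : ℂ) * ∑ φ ∈ blockFinset b, (w φ : ℂ) * (φ : G → ℂ) x)
    (hD : IsColumn b D) : ∃ j : ℤ, ∀ χ ∈ b, D χ = j * w χ := by
  classical
  obtain ⟨χ₁, hχ₁⟩ := hne
  obtain ⟨-, hlin⟩ := hD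
  have key : ∀ χ ∈ b, 4 * D χ = w χ * ∑ φ ∈ blockFinset b, w φ * D φ := by
    intro χ hχ
    have hχ' := mem_blockFinset.2 hχ
    have h := hlin (fun φ => (if φ = χ then 4 else 0) - (w χ : ℂ) * w φ) (fun y hy => by
      simp only [sub_mul, Finset.sum_sub_distrib, ite_mul, zero_mul, Finset.sum_ite_eq',
        if_pos hχ', mul_assoc, ← Finset.mul_sum]
      rw [hsing χ hχ y hy, sub_self])
    simp only [sub_mul, Finset.sum_sub_distrib, ite_mul, zero_mul, Finset.sum_ite_eq',
      if_pos hχ', mul_assoc, ← Finset.mul_sum] at h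
    have : ((4 * D χ : ℤ) : ℂ) = ((w χ * ∑ φ ∈ blockFinset b, w φ * D φ : ℤ) : ℂ) := by
      push_cast
      linear_combination h
    exact_mod_cast this
  refine ⟨w χ₁ * D χ₁, fun χ hχ => ?_⟩
  have h1 := key χ₁ hχ₁
  have h2 := key χ hχ
  rcases hw χ₁ hχ₁ with e1 | e1 <;> rcases hw χ hχ with e2 | e2 <;>
    rw [e1] at h1 ⊢ <;> rw [e2] at h2 ⊢ <;> omega

/-- The inner products of columns along a bijection with signs. -/
theorem exists_signed_bijection (hM : IsPModular 2 M) {B : Set (IrrCharacter G)}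
    (hB : IsPBlock M B) (hd : blockDefect 2 B = 2) {H : Type v} [Group H] [Fintype H]
    {c : Set (IrrCharacter H)} (hc : IsPBlock M c) (hdc : blockDefect 2 c = 2)
    (hl : blockRank 2 B = 1 ∨ blockRank 2 B = 3) (hlc : blockRank 2 c = blockRank 2 B) :
    ∃ (I : IrrCharacter H → IrrCharacter G) (ε : IrrCharacter H → ℤ),
      Set.BijOn I c B ∧ (∀ η ∈ c, ε η = 1 ∨ ε η = -1) ∧
      (∀ x y, ¬ ((IsPRegular 2 x ↔ IsPRegular 2 y)) →
        ∑ η ∈ blockFinset c, (ε η : ℂ) * (I η : G → ℂ) x * (η : H → ℂ) y = 0) ∧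
      ∀ D D', IsColumn B D → IsColumn c D' →
        (4 : ℤ) ∣ ∑ η ∈ blockFinset c, ε η * D (I η) * D' η := by
  classical
  have hB4 := card_blockFinset hM hB hd
  have hc4 := card_blockFinset hM hc hdc
  obtain ⟨χ₀, -⟩ := isPBlock_nonempty hM hB
  set J : blockFinset c ≃ blockFinset B := Finset.equivOfCardEq (hc4.trans hB4.symm) with hJ
  let I : IrrCharacter H → IrrCharacter G := fun η =>
    if h : η ∈ blockFinset c then (J ⟨η, h⟩).1 else χ₀
  have hI : ∀ η (h : η ∈ blockFinset c), I η = (J ⟨η, h⟩).1 := fun η h => dif_pos h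
  have hbij : Set.BijOn I c B := by
    refine ⟨fun η hη => ?_, fun η hη η' hη' h => ?_, fun χ hχ => ?_⟩
    · rw [hI η (mem_blockFinset.2 hη)]; exact mem_blockFinset.1 (J _).2
    · rw [hI η (mem_blockFinset.2 hη), hI η' (mem_blockFinset.2 hη')] at h
      exact congrArg Subtype.val (J.injective (Subtype.ext h))
    · refine ⟨(J.symm ⟨χ, mem_blockFinset.2 hχ⟩).1, mem_blockFinset.1 (J.symm _).2, ?_⟩
      rw [hI _ (J.symm _).2]; simp
  have hsumI : ∀ {R : Type} [AddCommMonoid R] (g : IrrCharacter G → R),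
      ∑ η ∈ blockFinset c, g (I η) = ∑ χ ∈ blockFinset B, g χ := fun g => by
    rw [← Finset.sum_coe_sort (blockFinset B), ← Finset.sum_coe_sort (blockFinset c)]
    exact Fintype.sum_equiv J _ _ fun η => by rw [hI η.1 η.2]
  have hIB : ∀ η ∈ blockFinset c, I η ∈ B := fun η hη => hbij.mapsTo (mem_blockFinset.1 hη)
  have hSB := hasShape hM hB hd hl
  have hSc := hasShape hM hc hdc (hlc.symm ▸ hl)
  rw [hlc] at hSc
  rcases hl with hl | hl <;> rw [hl] at hSB hSc
  · -- rank one: no signs
    obtain ⟨hregB, hsingB⟩ := hSB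
    obtain ⟨hregc, hsingc⟩ := hSc
    refine ⟨I, fun _ => 1, hbij, fun _ _ => Or.inl rfl, fun x y hxy => ?_, fun D D' hD hD' => ?_⟩
    · simp only [Int.cast_one, one_mul]
      obtain ⟨η₀, hη₀⟩ := isPBlock_nonempty hM hc
      by_cases hx : 2 ∣ orderOf x
      · have hy : ¬ 2 ∣ orderOf y := fun hy => hxy (iff_of_false (fun h => h hx) (fun h => h hy))
        rw [Finset.sum_congr rfl fun η hη => by
          rw [hregc η (mem_blockFinset.1 hη) η₀ hη₀ y hy], ← Finset.sum_mul,
          hsumI fun χ => (χ : G → ℂ) x, hsingB x hx, zero_mul]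
      · have hy : 2 ∣ orderOf y := by_contra fun hy => hxy (iff_of_true hx hy)
        rw [Finset.sum_congr rfl fun η hη => by
          rw [hregB _ (hIB η hη) _ (hIB η₀ (mem_blockFinset.2 hη₀)) x hx], ← Finset.mul_sum,
          hsingc y hy, mul_zero]
    · obtain ⟨hB0, hB1⟩ := column_one hB4 hsingB hD
      obtain ⟨hc0, hc1⟩ := column_one hc4 hsingc hD'
      have h4 : (4 : ℤ) ∣ ∑ η ∈ blockFinset c, (1 - D (I η)) * (1 - D' η) :=
        Finset.dvd_sum fun η hη => by
          rcases hB1 (I η) (mem_blockFinset.2 (hIB η hη)) with h | h <;>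
            rcases hc1 η hη with h' | h' <;> rw [h, h'] <;> norm_num
      simp only [one_mul, sub_mul, mul_sub, mul_one, Finset.sum_sub_distrib, Finset.sum_const, hc4,
        hc0, hsumI (g := D), hB0, nsmul_eq_mul, Nat.cast_ofNat] at h4 ⊢
      omega
  · -- rank three
    obtain ⟨w, hw, hsingB, hregB⟩ := hSB
    obtain ⟨v, hv, hsingc, hregc⟩ := hSc
    have hw2 : ∀ χ ∈ B, (w χ : ℂ) * w χ = 1 := fun χ hχ => by
      rcases hw χ hχ with h | h <;> rw [h] <;> norm_num
    have hv2 : ∀ η ∈ c, (v η : ℂ) * v η = 1 := fun η hη => by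
      rcases hv η hη with h | h <;> rw [h] <;> norm_num
    refine ⟨I, fun η => w (I η) * v η, hbij, fun η hη => ?_, fun x y hxy => ?_,
      fun D D' hD hD' => ?_⟩
    · rcases hw _ (hbij.mapsTo hη) with h | h <;> rcases hv η hη with h' | h' <;> simp [h, h']
    · by_cases hx : 2 ∣ orderOf x
      · have hy : ¬ 2 ∣ orderOf y := fun hy => hxy (iff_of_false (fun h => h hx) (fun h => h hy))
        refine mul_left_cancel₀ (by norm_num : (4 : ℂ) ≠ 0) ?_
        rw [mul_zero, Finset.mul_sum]
        calc ∑ η ∈ blockFinset c,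
              4 * (((w (I η) * v η : ℤ) : ℂ) * (I η : G → ℂ) x * (η : H → ℂ) y)
            = (∑ φ ∈ blockFinset B, (w φ : ℂ) * (φ : G → ℂ) x) *
                ∑ η ∈ blockFinset c, (v η : ℂ) * (η : H → ℂ) y := by
              rw [Finset.mul_sum]
              refine Finset.sum_congr rfl fun η hη => ?_
              have h := hsingB _ (hIB η hη) x hx
              push_cast
              linear_combination ((w (I η) : ℂ) * v η * (η : H → ℂ) y) * h +
                ((v η : ℂ) * (η : H → ℂ) y * ∑ φ ∈ blockFinset B, (w φ : ℂ) * (φ : G → ℂ) x) *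
                  hw2 _ (hIB η hη)
          _ = 0 := by rw [hregc y hy, mul_zero]
      · have hy : 2 ∣ orderOf y := by_contra fun hy => hxy (iff_of_true hx hy)
        refine mul_left_cancel₀ (by norm_num : (4 : ℂ) ≠ 0) ?_
        rw [mul_zero, Finset.mul_sum]
        calc ∑ η ∈ blockFinset c,
              4 * (((w (I η) * v η : ℤ) : ℂ) * (I η : G → ℂ) x * (η : H → ℂ) y)
            = (∑ η ∈ blockFinset c, (w (I η) : ℂ) * (I η : G → ℂ) x) *
                ∑ φ ∈ blockFinset c, (v φ : ℂ) * (φ : H → ℂ) y := by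
              rw [Finset.sum_mul]
              refine Finset.sum_congr rfl fun η hη => ?_
              have h := hsingc η (mem_blockFinset.1 hη) y hy
              push_cast
              linear_combination ((w (I η) : ℂ) * v η * (I η : G → ℂ) x) * h +
                ((w (I η) : ℂ) * (I η : G → ℂ) x * ∑ φ ∈ blockFinset c, (v φ : ℂ) * (φ : H → ℂ) y) *
                  hv2 η (mem_blockFinset.1 hη)
          _ = 0 := by
              rw [hsumI fun χ => (w χ : ℂ) * (χ : G → ℂ) x, hregB x hx, zero_mul]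
    · obtain ⟨j, hj⟩ := column_three w (isPBlock_nonempty hM hB) hw hsingB hD
      obtain ⟨j', hj'⟩ := column_three v (isPBlock_nonempty hM hc) hv hsingc hD'
      refine ⟨j * j', ?_⟩
      rw [Finset.sum_congr rfl (g := fun _ => j * j') fun η hη => ?_, Finset.sum_const, hc4,
        nsmul_eq_mul, Nat.cast_ofNat]
      rw [hj _ (hIB η hη), hj' η (mem_blockFinset.1 hη)]
      have e1 : w (I η) * w (I η) = 1 := by exact_mod_cast hw2 _ (hIB η hη)
      have e2 : v η * v η = 1 := by exact_mod_cast hv2 η (mem_blockFinset.1 hη)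
      linear_combination (j * j' * (v η * v η)) * e1 + (j * j') * e2

/-- A perfect isometry between two blocks with Klein four defect groups of equal rank. -/
theorem exists_isometry (hM : IsPModular 2 M) {B : Set (IrrCharacter G)}
    (hB : IsPBlock M B) (hd : blockDefect 2 B = 2) {P : Subgroup G}
    {e : Set (IrrCharacter (Subgroup.centralizer (P : Set G)))}
    (hmax : IsMaximalBrauerPair 2 M B P e) (hsq : ∀ u ∈ P, u * u = 1)
    {H : Type v} [Group H] [Fintype H] {c : Set (IrrCharacter H)} (hc : IsPBlock M c)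
    (hdc : blockDefect 2 c = 2) {Q : Subgroup H}
    {k : Set (IrrCharacter (Subgroup.centralizer (Q : Set H)))}
    (hmax' : IsMaximalBrauerPair 2 M c Q k) (hsq' : ∀ u ∈ Q, u * u = 1)
    (hl : blockRank 2 B = 1 ∨ blockRank 2 B = 3) (hlc : blockRank 2 c = blockRank 2 B) :
    ∃ (I : IrrCharacter H → IrrCharacter G) (ε : IrrCharacter H → ℤ),
      IsPerfectIsometry 2 M c B I ε := by
  classical
  obtain ⟨I, ε, hbij, hε, hmixed, hdvd⟩ := exists_signed_bijection hM hB hd hc hdc hl hlc
  refine ⟨I, ε, hbij, hε, ?_⟩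
  have hker : ∀ x y, signedBijectionKernel c I ε x y =
      ∑ η ∈ blockFinset c, (ε η : ℂ) * (I η : G → ℂ) x * (η : H → ℂ) y := fun x y => by
    rw [signedBijectionKernel, finsum_mem_eq_sum_ite, blockFinset, Finset.sum_filter]
  intro x y
  simp only [hker]
  by_cases hxy : IsPRegular 2 x ↔ IsPRegular 2 y
  swap
  · rw [hmixed x y hxy, zero_div, zero_div]
    exact ⟨(locRing hM).zero_mem, (locRing hM).zero_mem, Or.inr rfl⟩
  refine ⟨?_, ?_, Or.inl hxy⟩ <;> by_cases hx : 2 ∣ orderOf x
  rotate_left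
  · -- both regular, first variable
    have hy : IsPRegular 2 y := hxy.1 hx
    have hsum : ∀ z : G, ∑ χ : IrrCharacter G, (∑ η ∈ blockFinset c,
        if I η = χ then (ε η : ℂ) * (η : H → ℂ) y else 0) * (χ : G → ℂ) z =
        ∑ η ∈ blockFinset c, (ε η : ℂ) * (I η : G → ℂ) z * (η : H → ℂ) y := fun z => by
      simp only [Finset.sum_mul, ite_mul, zero_mul]
      rw [Finset.sum_comm]
      exact Finset.sum_congr rfl fun η _ => by rw [Finset.sum_ite_eq, if_pos (Finset.mem_univ _)]; ring
    have h := memLocalRing_div_centralizer hM (fun χ => ∑ η ∈ blockFinset c,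
      if I η = χ then (ε η : ℂ) * (η : H → ℂ) y else 0)
      (fun χ => IsIntegral.sum _ fun η _ => by
        split_ifs; exacts [(isIntegral_intCast _).mul (isIntegral_apply η y), isIntegral_zero])
      (fun z hz => by
        rw [hsum]
        exact hmixed z y fun h => (h.2 hy) hz) x
    rwa [hsum] at h
  rotate_left
  · -- both regular, second variable
    have hy : IsPRegular 2 y := hxy.1 hx
    have hsum : ∀ z : H, ∑ η : IrrCharacter H,
        (if η ∈ blockFinset c then (ε η : ℂ) * (I η : G → ℂ) x else 0) * (η : H → ℂ) z =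
        ∑ η ∈ blockFinset c, (ε η : ℂ) * (I η : G → ℂ) x * (η : H → ℂ) z := fun z => by
      simp only [ite_mul, zero_mul]
      rw [Finset.sum_ite_mem, Finset.univ_inter]
    have h := memLocalRing_div_centralizer hM (fun η =>
      if η ∈ blockFinset c then (ε η : ℂ) * (I η : G → ℂ) x else 0)
      (fun η => by
        split_ifs; exacts [(isIntegral_intCast _).mul (isIntegral_apply (I η) x), isIntegral_zero])
      (fun z hz => by
        rw [hsum]
        exact hmixed x z fun h => (h.1 hx) hz) y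
    rwa [hsum] at h
  all_goals
    have hy : 2 ∣ orderOf y := by_contra fun h => (hxy.2 h) hx
    obtain ⟨n, D, φ, hval, hD⟩ := exists_expansion hM hB hd hmax hsq hx
    obtain ⟨m, D', φ', hval', hD'⟩ := exists_expansion hM hc hdc hmax' hsq' hy
    choose q hq using fun i j => hdvd (D i) (D' j) (hD i).1 (hD' j).1
    have hmu : ∑ η ∈ blockFinset c, (ε η : ℂ) * (I η : G → ℂ) x * (η : H → ℂ) y =
        ∑ i, ∑ j, 4 * φ i * φ' j * (q i j : ℂ) := by
      have h4 : ∀ i j, (4 : ℂ) * (q i j : ℂ) =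
          ∑ η ∈ blockFinset c, (ε η : ℂ) * (D i (I η) : ℂ) * (D' j η : ℂ) := fun i j => by
        have := congrArg (fun z : ℤ => (z : ℂ)) (hq i j)
        push_cast at this
        exact this.symm
      calc _ = ∑ η ∈ blockFinset c, ∑ i, ∑ j,
            (ε η : ℂ) * ((D i (I η) : ℂ) * φ i) * ((D' j η : ℂ) * φ' j) := by
            refine Finset.sum_congr rfl fun η hη => ?_
            rw [hval _ (hbij.mapsTo (mem_blockFinset.1 hη)), hval' η (mem_blockFinset.1 hη),
              mul_assoc, Finset.sum_mul_sum, Finset.mul_sum]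
            refine Finset.sum_congr rfl fun i _ => ?_
            rw [Finset.mul_sum]
            exact Finset.sum_congr rfl fun j _ => by ring
        _ = _ := by
            rw [Finset.sum_comm]
            refine Finset.sum_congr rfl fun i _ => ?_
            rw [Finset.sum_comm]
            refine Finset.sum_congr rfl fun j _ => ?_
            rw [show 4 * φ i * φ' j * (q i j : ℂ) = (4 * (q i j : ℂ)) * (φ i * φ' j) by ring, h4,
              Finset.sum_mul]
            exact Finset.sum_congr rfl fun η _ => by ring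
    rw [hmu, Finset.sum_div]
    refine (locRing hM).sum_mem fun i _ => ?_
    rw [Finset.sum_div]
    refine (locRing hM).sum_mem fun j _ => ?_
  · rw [show ∀ C : ℂ, 4 * φ i * φ' j * (q i j : ℂ) / C = 4 * φ i / C * φ' j * (q i j : ℂ) from
      fun C => by ring]
    exact memLocalRing_mul hM (memLocalRing_mul hM (hD i).2.2 (hD' j).2.1)
      (memLocalRing_of_isIntegral hM (isIntegral_intCast _))
  · rw [show ∀ C : ℂ, 4 * φ i * φ' j * (q i j : ℂ) / C = φ i * (4 * φ' j / C) * (q i j : ℂ) from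
      fun C => by ring]
    exact memLocalRing_mul hM (memLocalRing_mul hM (hD i).2.1 (hD' j).2.2)
      (memLocalRing_of_isIntegral hM (isIntegral_intCast _))

end Cfsg.Agent.H25.KleinIsometry
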