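import Cfsg.Agent.H25.KleinDefect

/-!
# The two possible matrices of a two-block with four characters and defect two
-/

set_option linter.unusedSectionVars false

open scoped ComplexConjugate

namespace Cfsg.Agent.H25.KleinIsometry

open BlockBasic CharBasic H83

universe u

variable {G : Type u} [Group G] [Fintype G] [Fact (Nat.Prime 2)] {M : Ideal AlgInt}

open scoped Classical in
/-- The characters of `B`, as a finset. -/
noncomputable def blockFinset (B : Set (IrrCharacter G)) : Finset (IrrCharacter G) :=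
  Finset.univ.filter (· ∈ B)

theorem mem_blockFinset {B : Set (IrrCharacter G)} {χ : IrrCharacter G} :
    χ ∈ blockFinset B ↔ χ ∈ B := by
  simp [blockFinset]

/-- The relations between the values of the characters of `B` that are read off the matrix. -/
def HasShape (B : Set (IrrCharacter G)) : ℕ → Prop
  | 1 => (∀ χ ∈ B, ∀ χ' ∈ B, ∀ x : G, ¬ 2 ∣ orderOf x → (χ : G → ℂ) x = (χ' : G → ℂ) x) ∧
      ∀ x : G, 2 ∣ orderOf x → ∑ φ ∈ blockFinset B, (φ : G → ℂ) x = 0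
  | 3 => ∃ w : IrrCharacter G → ℤ, (∀ χ ∈ B, w χ = 1 ∨ w χ = -1) ∧
      (∀ χ ∈ B, ∀ x : G, 2 ∣ orderOf x →
        4 * (χ : G → ℂ) x = (w χ : ℂ) * ∑ φ ∈ blockFinset B, (w φ : ℂ) * (φ : G → ℂ) x) ∧
      ∀ x : G, ¬ 2 ∣ orderOf x → ∑ φ ∈ blockFinset B, (w φ : ℂ) * (φ : G → ℂ) x = 0
  | _ => False

theorem card_blockFinset (hM : IsPModular 2 M) {B : Set (IrrCharacter G)} (hB : IsPBlock M B)
    (hd : blockDefect 2 B = 2) : (blockFinset B).card = 4 := by
  classical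
  rw [← KleinDefect.card_eq_four hM hB hd, Nat.card_eq_fintype_card, Fintype.card_subtype,
    blockFinset]

theorem hasShape (hM : IsPModular 2 M) {B : Set (IrrCharacter G)} (hB : IsPBlock M B)
    (hd : blockDefect 2 B = 2) (hl : blockRank 2 B = 1 ∨ blockRank 2 B = 3) :
    HasShape B (blockRank 2 B) := by
  classical
  set Bf := blockFinset B with hBf
  have hmem : ∀ {χ}, χ ∈ Bf → χ ∈ B := fun h => mem_blockFinset.1 h
  have h4 : Bf.card = 4 := card_blockFinset hM hB hd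
  set R := fun χ φ : IrrCharacter G => entry 2 B χ φ with hR
  have hh : ∀ χ ∈ B, blockHeight 2 B (χ : G → ℂ) = 0 := fun χ hχ => by
    have := ((S4710.result 2 M hM B hB _ rfl).2 χ hχ).2 (by omega)
    omega
  have hodd : ∀ χ ∈ Bf, ∀ φ ∈ Bf, R χ φ ≠ 0 := fun χ hχ φ hφ h => by
    have := not_dvd_entry_of_height_zero hM hB (hmem hχ) (hh χ (hmem hχ)) (hmem hφ)
    exact this ((show entry 2 B χ φ = 0 from h) ▸ dvd_zero _)
  have hsymm : ∀ χ ∈ Bf, ∀ φ ∈ Bf, R φ χ = R χ φ := fun χ hχ φ hφ =>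
    entry_symm hM hB (hmem hφ) (hmem hχ)
  have hres : ∀ (χ : IrrCharacter G) (f : IrrCharacter G → ℤ), χ ∈ Bf →
      ∑ φ, R χ φ * f φ = ∑ φ ∈ Bf, R χ φ * f φ := fun χ f hχ =>
    (Finset.sum_subset (Finset.subset_univ _) fun φ _ hφ => by
      rw [show R χ φ = 0 from entry_eq_zero hM hB (hmem hχ) fun h => hφ (mem_blockFinset.2 h),
        zero_mul]).symm
  have hsq : ∀ χ ∈ Bf, ∑ φ ∈ Bf.erase χ, R χ φ * R χ φ = 4 * R χ χ - R χ χ * R χ χ := by
    intro χ hχ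
    have h := sum_entry_sq hM hB (hmem hχ)
    simp only [sq, hd, Nat.cast_ofNat] at h
    rw [hres χ _ hχ, ← Finset.add_sum_erase Bf _ hχ] at h
    simp only [hR] at h ⊢
    linarith
  have hdiag : ∀ χ ∈ Bf, (R χ χ = 1 ∨ R χ χ = 3) ∧
      ∀ φ ∈ Bf.erase χ, R χ φ = 1 ∨ R χ φ = -1 := by
    intro χ hχ
    have hge : ∀ φ ∈ Bf.erase χ, 0 ≤ R χ φ * R χ φ - 1 := fun φ hφ => by
      have := mul_self_pos.2 (hodd χ hχ φ (Finset.mem_of_mem_erase hφ))
      omega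
    have hs := hsq χ hχ
    have hsum : ∑ φ ∈ Bf.erase χ, (R χ φ * R χ φ - 1) = 4 * R χ χ - R χ χ * R χ χ - 3 := by
      rw [Finset.sum_sub_distrib, hs, Finset.sum_const, Finset.card_erase_of_mem hχ, h4]
      simp
    have hnn := Finset.sum_nonneg hge
    rw [hsum] at hnn
    have h1 : 0 < R χ χ := entry_self_pos hM hB (hmem hχ)
    have hne : ¬ (2 : ℤ) ∣ R χ χ := by
      have := not_dvd_entry_of_height_zero hM hB (hmem hχ) (hh χ (hmem hχ)) (hmem hχ)
      rwa [hh χ (hmem hχ), zero_add, pow_one] at this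
    have h3 : R χ χ ≤ 3 := by nlinarith
    have ha : R χ χ = 1 ∨ R χ χ = 3 := by omega
    refine ⟨ha, fun φ hφ => ?_⟩
    have hz : R χ φ * R χ φ - 1 = 0 := (Finset.sum_eq_zero_iff_of_nonneg hge).1
      (by rw [hsum]; rcases ha with h | h <;> rw [h] <;> norm_num) φ hφ
    exact mul_self_eq_one_iff.1 (by omega)
  have hpm : ∀ χ ∈ Bf, ∀ φ ∈ Bf, φ ≠ χ → R χ φ * R χ φ = 1 := fun χ hχ φ hφ hne => by
    rcases (hdiag χ hχ).2 φ (Finset.mem_erase.2 ⟨hne, hφ⟩) with h | h <;> rw [h] <;> norm_num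
  have htr : ∑ χ ∈ Bf, R χ χ = 4 * (blockRank 2 B : ℤ) := by
    have h := blockRank_eq_sum_regInner hM hB
    rw [← Finset.sum_filter, show Finset.univ.filter (· ∈ B) = Bf from
      Finset.ext fun φ => by simp [hBf, mem_blockFinset]] at h
    have : ((∑ χ ∈ Bf, R χ χ : ℤ) : ℂ) = ((4 * (blockRank 2 B : ℤ) : ℤ) : ℂ) := by
      push_cast
      rw [h, Finset.mul_sum]
      refine Finset.sum_congr rfl fun χ hχ => ?_
      rw [show (R χ χ : ℂ) = _ from entry_spec hM hB (hmem hχ) χ, hd]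
      norm_num
    exact_mod_cast this
  have happ : ∀ χ ∈ Bf, ∀ x : G, ∑ φ ∈ Bf, (R χ φ : ℂ) * (φ : G → ℂ) x =
      4 * pRegularPart 2 (χ : G → ℂ) x := by
    intro χ hχ x
    have h := sum_entry_mul_apply hM hB (hmem hχ) x
    rw [hd] at h
    rw [Finset.sum_subset (Finset.subset_univ Bf) fun φ _ hφ => by
      rw [show R χ φ = 0 from entry_eq_zero hM hB (hmem hχ) fun h => hφ (mem_blockFinset.2 h),
        Int.cast_zero, zero_mul]]
    convert h using 1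
    norm_num
  have hprod : ∀ χ ∈ Bf, ∀ ψ ∈ Bf, ∑ φ ∈ Bf, R χ φ * R φ ψ = 4 * R χ ψ := by
    intro χ hχ ψ hψ
    rw [← hres χ _ hχ]
    have h := sum_entry_mul hM hB (hmem hχ) (hmem hψ)
    rw [hd] at h
    exact h
  obtain ⟨χ₀, hχ₀B⟩ := isPBlock_nonempty hM hB
  have hχ₀ : χ₀ ∈ Bf := mem_blockFinset.2 hχ₀B
  rcases hl with hl1 | hl3
  · -- rank one
    rw [hl1] at htr ⊢
    have ha : ∀ χ ∈ Bf, R χ χ = 1 := by
      have h0 : ∑ χ ∈ Bf, (R χ χ - 1) = 0 := by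
        rw [Finset.sum_sub_distrib, htr, Finset.sum_const, h4]
        simp
      intro χ hχ
      have := (Finset.sum_eq_zero_iff_of_nonneg fun φ hφ => by
        rcases (hdiag φ hφ).1 with h | h <;> omega).1 h0 χ hχ
      omega
    have hall : ∀ χ ∈ Bf, ∀ φ ∈ Bf, R χ φ * R χ φ = 1 := fun χ hχ φ hφ => by
      by_cases h : φ = χ
      · rw [h, ha χ hχ]; norm_num
      · exact hpm χ hχ φ hφ h
    set s := fun χ => R χ₀ χ with hs
    have hfac : ∀ φ ∈ Bf, ∀ ψ ∈ Bf, R φ ψ = s φ * s ψ := by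
      intro φ hφ ψ hψ
      have h0 : ∑ φ ∈ Bf, (1 - R χ₀ φ * R φ ψ * R χ₀ ψ) = 0 := by
        rw [Finset.sum_sub_distrib, ← Finset.sum_mul, hprod _ hχ₀ _ hψ, Finset.sum_const, h4,
          mul_assoc, hall _ hχ₀ _ hψ]
        simp
      have hterm : ∀ φ ∈ Bf, 0 ≤ 1 - R χ₀ φ * R φ ψ * R χ₀ ψ := fun φ hφ => by
        have h1 : (R χ₀ φ * R φ ψ * R χ₀ ψ) * (R χ₀ φ * R φ ψ * R χ₀ ψ) = 1 := by
          linear_combination (R φ ψ * R φ ψ * (R χ₀ ψ * R χ₀ ψ)) * hall _ hχ₀ _ hφ +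
            (R χ₀ ψ * R χ₀ ψ) * hall _ hφ _ hψ + hall _ hχ₀ _ hψ
        rcases mul_self_eq_one_iff.1 h1 with h | h <;> rw [h] <;> norm_num
      have h1 := (Finset.sum_eq_zero_iff_of_nonneg hterm).1 h0 φ hφ
      have h2 := hall _ hχ₀ _ hφ
      have h3 := hall _ hχ₀ _ hψ
      simp only [hs]
      linear_combination (-(R χ₀ φ * R χ₀ ψ)) * h1 -
        (R φ ψ * (R χ₀ ψ * R χ₀ ψ)) * h2 - R φ ψ * h3
    set S : ℤ := ∑ φ ∈ Bf, s φ * (charDegree (φ : G → ℂ) : ℤ) with hS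
    have hpos : ∀ χ ∈ Bf, 0 < s χ * S := fun χ hχ => by
      have h := happ χ hχ 1
      rw [pRegularPart_eq_self _ (by simp), apply_one_eq_charDegree] at h
      have h' : ((s χ * S : ℤ) : ℂ) = ((4 * (charDegree (χ : G → ℂ) : ℤ) : ℤ) : ℂ) := by
        push_cast [hS]
        rw [← h, Finset.mul_sum]
        refine Finset.sum_congr rfl fun φ hφ => ?_
        rw [hfac χ hχ φ hφ, apply_one_eq_charDegree]
        push_cast; ring
      have := charDegree_pos χ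
      rw [show s χ * S = 4 * (charDegree (χ : G → ℂ) : ℤ) by exact_mod_cast h']
      omega
    have hone : ∀ χ ∈ Bf, ∀ φ ∈ Bf, R χ φ = 1 := by
      have hs1 : ∀ χ ∈ Bf, s χ = 1 := fun χ hχ => by
        have h1 := hpos χ₀ hχ₀
        have h2 := hpos χ hχ
        rw [show s χ₀ = 1 from ha χ₀ hχ₀, one_mul] at h1
        rcases mul_self_eq_one_iff.1 (hall _ hχ₀ _ hχ) with h | h
        · exact h
        · rw [show s χ = -1 from h] at h2; linarith
      intro χ hχ φ hφ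
      rw [hfac χ hχ φ hφ, hs1 χ hχ, hs1 φ hφ, one_mul]
    have hval : ∀ χ ∈ B, ∀ x : G,
        ∑ φ ∈ Bf, (φ : G → ℂ) x = 4 * pRegularPart 2 (χ : G → ℂ) x := fun χ hχ x => by
      rw [← happ χ (mem_blockFinset.2 hχ) x]
      exact Finset.sum_congr rfl fun φ hφ => by
        rw [hone χ (mem_blockFinset.2 hχ) φ hφ, Int.cast_one, one_mul]
    refine ⟨fun χ hχ χ' hχ' x hx => ?_, fun x hx => ?_⟩
    · have h := (hval χ hχ x).symm.trans (hval χ' hχ' x)
      rw [pRegularPart_eq_self _ hx, pRegularPart_eq_self _ hx] at h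
      linear_combination h / 4
    · rw [← hBf, hval χ₀ hχ₀B x, pRegularPart_eq_zero _ hx, mul_zero]
  · -- rank three
    rw [hl3] at htr ⊢
    have ha : ∀ χ ∈ Bf, R χ χ = 3 := by
      have h0 : ∑ χ ∈ Bf, (3 - R χ χ) = 0 := by
        rw [Finset.sum_sub_distrib, htr, Finset.sum_const, h4]
        simp
      intro χ hχ
      have := (Finset.sum_eq_zero_iff_of_nonneg fun φ hφ => by
        rcases (hdiag φ hφ).1 with h | h <;> omega).1 h0 χ hχ
      omega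
    set w := fun χ => if χ = χ₀ then 1 else -R χ₀ χ with hw
    have hw1 : ∀ χ ∈ Bf, w χ * w χ = 1 := fun χ hχ => by
      by_cases h : χ = χ₀
      · simp [hw, h]
      · simp only [hw, if_neg h, neg_mul_neg]
        exact hpm _ hχ₀ _ hχ h
    have hfac : ∀ φ ∈ Bf, ∀ ψ ∈ Bf, φ ≠ ψ → R φ ψ = -(w φ * w ψ) := by
      intro φ hφ ψ hψ hne
      by_cases h1 : φ = χ₀
      · subst h1
        simp [hw, Ne.symm hne]
      by_cases h2 : ψ = χ₀
      · subst h2
        simp [hw, h1, hsymm _ hψ _ hφ]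
      have hmemψ : ψ ∈ Bf.erase χ₀ := Finset.mem_erase.2 ⟨h2, hψ⟩
      have hcard : ((Bf.erase χ₀).erase ψ).card = 2 := by
        rw [Finset.card_erase_of_mem hmemψ, Finset.card_erase_of_mem hχ₀, h4]
      have hr := hprod _ hχ₀ _ hψ
      rw [← Finset.add_sum_erase Bf _ hχ₀, ← Finset.add_sum_erase (Bf.erase χ₀) _ hmemψ,
        ha _ hχ₀, ha _ hψ] at hr
      have hsign := hpm _ hχ₀ _ hψ h2
      have h0 : ∑ φ ∈ (Bf.erase χ₀).erase ψ, (1 + R χ₀ φ * R φ ψ * R χ₀ ψ) = 0 := by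
        rw [Finset.sum_add_distrib, ← Finset.sum_mul, Finset.sum_const, hcard, nsmul_eq_mul]
        push_cast
        linear_combination R χ₀ ψ * hr - 2 * hsign
      have hterm : ∀ φ ∈ (Bf.erase χ₀).erase ψ, 0 ≤ 1 + R χ₀ φ * R φ ψ * R χ₀ ψ := fun φ hφ' => by
        obtain ⟨hφψ, hφ''⟩ := Finset.mem_erase.1 hφ'
        obtain ⟨hφ0, hφB⟩ := Finset.mem_erase.1 hφ''
        have h1 : (R χ₀ φ * R φ ψ * R χ₀ ψ) * (R χ₀ φ * R φ ψ * R χ₀ ψ) = 1 := by
          linear_combination (R φ ψ * R φ ψ * (R χ₀ ψ * R χ₀ ψ)) * hpm _ hχ₀ _ hφB hφ0 +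
            (R χ₀ ψ * R χ₀ ψ) * hpm _ hφB _ hψ (Ne.symm hφψ) + hsign
        rcases mul_self_eq_one_iff.1 h1 with h | h <;> rw [h] <;> norm_num
      have h3 := (Finset.sum_eq_zero_iff_of_nonneg hterm).1 h0 φ
        (Finset.mem_erase.2 ⟨hne, Finset.mem_erase.2 ⟨h1, hφ⟩⟩)
      simp only [hw, if_neg h1, if_neg h2, neg_mul_neg]
      linear_combination (R χ₀ φ * R χ₀ ψ) * h3 -
        (R φ ψ * (R χ₀ ψ * R χ₀ ψ)) * hpm _ hχ₀ _ hφ h1 - R φ ψ * hsign
    have hval : ∀ χ ∈ B, ∀ x : G, 4 * (χ : G → ℂ) x -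
        (w χ : ℂ) * ∑ φ ∈ Bf, (w φ : ℂ) * (φ : G → ℂ) x = 4 * pRegularPart 2 (χ : G → ℂ) x := by
      intro χ hχB x
      have hχ := mem_blockFinset.2 hχB
      rw [← happ χ hχ x, Finset.mul_sum, ← Finset.add_sum_erase Bf _ hχ,
        ← Finset.add_sum_erase Bf (fun φ => (R χ φ : ℂ) * (φ : G → ℂ) x) hχ, ha χ hχ,
        Finset.sum_congr rfl fun φ hφ => show (R χ φ : ℂ) * (φ : G → ℂ) x =
          -((w χ : ℂ) * ((w φ : ℂ) * (φ : G → ℂ) x)) by
            rw [hfac χ hχ φ (Finset.mem_of_mem_erase hφ) (Finset.ne_of_mem_erase hφ).symm]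
            push_cast; ring, Finset.sum_neg_distrib]
      have h1 : (w χ : ℂ) * (w χ : ℂ) = 1 := by exact_mod_cast hw1 χ hχ
      push_cast
      linear_combination (-(χ : G → ℂ) x) * h1
    refine ⟨w, fun χ hχ => mul_self_eq_one_iff.1 (hw1 χ (mem_blockFinset.2 hχ)),
      fun χ hχ x hx => ?_, fun x hx => ?_⟩
    · have h := hval χ hχ x
      rw [pRegularPart_eq_zero _ hx, mul_zero] at h
      rw [← hBf]
      linear_combination h
    · have h := hval χ₀ hχ₀B x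
      rw [pRegularPart_eq_self _ hx] at h
      have h0 : (w χ₀ : ℂ) = 1 := by simp [hw]
      rw [h0] at h
      rw [← hBf]
      linear_combination -h

end Cfsg.Agent.H25.KleinIsometry
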